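import Groth.Agent.Grpsch.PicGrp

/-!
# Classes of invertible modules on a disjoint union

* `exists_gen_of_pull_eq_one` : a module whose pullback along an open immersion `f` is trivial has a generator over the
  range of `f`;
* `eq_one_of_disjoint` : a class which is trivial on the members of a disjoint open covering is trivial.
-/

set_option autoImplicit false
universe v u

open CategoryTheory CategoryTheory.Limits AlgebraicGeometry TopologicalSpace Opposite
open Groth.Agent.Grpsch.PicGrp Groth.Agent.Fdesc.LocGen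

namespace Groth.Agent.Pic13.H520.DisjPic

theorem exists_gen_of_pull_eq_one {V X : Scheme.{u}} (f : V ⟶ X) [IsOpenImmersion f] {L : X.Modules}
    (hL : PicF.IsInvertible L) (h : pull f (mk L hL) = 1) : ∃ e : Γ(L, f.opensRange), IsGen e := by
  rw [pull_mk, mk_eq_one_iff] at h
  obtain ⟨e⟩ := h
  let e' := (Scheme.Modules.restrictFunctorIsoPullback f).app L ≪≫ e
  have h1 : IsGen (sec e'.inv ⊤) := (isIso_iff_isGen e'.inv).mp inferInstance
  obtain ⟨m, hm⟩ := (toRestrict (M := L) f (U := ⊤)).surjective (sec e'.inv ⊤)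
  rw [← hm, isGen_toRestrict_iff] at h1
  exact ⟨res L f.image_top_eq_opensRange.ge m, h1.res _⟩

/-- A class which is trivial on the members of a disjoint open covering is trivial. -/
theorem eq_one_of_disjoint {X : Scheme.{u}} {ι : Type v} (V : ι → Scheme.{u}) (f : ∀ i, V i ⟶ X)
    [∀ i, IsOpenImmersion (f i)] (hd : ∀ i j, i ≠ j → Disjoint (Set.range (f i)) (Set.range (f j)))
    (hU : ∀ x : X, ∃ i, x ∈ Set.range (f i)) (c : Pic X) (h : ∀ i, pull (f i) c = 1) : c = 1 := by
  obtain ⟨L, hL, rfl⟩ := exists_mk c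
  choose e he using fun i => exists_gen_of_pull_eq_one (f i) hL (h i)
  have hcov : (⊤ : X.Opens) ≤ ⨆ i, (f i).opensRange := by
    intro x _
    obtain ⟨i, hi⟩ := hU x
    exact Opens.mem_iSup.2 ⟨i, hi⟩
  obtain ⟨t, ht⟩ := res_glue L (V := ⊤) (fun i => (f i).opensRange) (fun _ => le_top) hcov e (by
    intro i j
    by_cases hij : i = j
    · subst hij
      rfl
    · refine res_ext L (ι := PEmpty.{1}) (fun x => x.elim) (fun x => x.elim) ?_ (fun x => x.elim)
      intro x hx
      exact (Set.disjoint_left.1 (hd i j hij) hx.1 hx.2).elim)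
  have hg : IsGen t := IsGen.of_cover _ (fun _ => le_top) hcov (fun i => by
    rw [ht i]
    exact he i)
  rw [mk_eq_one_iff]
  have : IsIso (homOf t) := (isIso_iff_isGen _).mpr (by simpa using hg)
  exact ⟨(asIso (homOf t)).symm⟩

end Groth.Agent.Pic13.H520.DisjPic
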