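import Groth.Agent.Pic13.H602.InjField
import Groth.Agent.Ega3A.PicSheaf
import Groth.Agent.Fga.RigGrp
import Mathlib.AlgebraicGeometry.Sites.Proetale

/-!
# Classes rigidified along a section: gluing and separatedness

`f : X ⟶ S` with a section `σ`, such that `Γ(X_T) → Γ(S_T)` is injective for all `T` (`Rig.Inj f σ`).

* `exists_glue`: classes in `Rg f σ hσ (V i)` (i.e. trivial along the section) over an étale covering of `T`, which agree
  on the overlaps, glue;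
* `eq_of_cover`, `eq_of_locEq`: classes in `Rg f σ hσ T` which agree étale locally on `T` are equal;
* `eq_proj_of_locEq`: a class étale-locally trivial on `T` comes from `T`.
-/

set_option autoImplicit false
set_option backward.isDefEq.respectTransparency false

universe v u

open CategoryTheory CategoryTheory.Limits AlgebraicGeometry TopologicalSpace Opposite

namespace Groth.Agent.Pic13.H520.RigCls

open Groth.Agent.Grpsch

open Groth.Agent.Fdesc Groth.Agent.Fdesc.LocGen Groth.Agent.Picfga.LineHom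
  Groth.Agent.Picfga.LineFam Groth.Agent.Picfga.HilbPull
open Groth.Agent.Ega3A.PicDiv Groth.Agent.Ega3A.PicEtSh Groth.Agent.Grpsch.PicGrp
open Groth.Agent.Fga.RigGrp (Rg mem_Rg pull_mem norm norm_mem norm_apply pull_norm norm_of_mem toCl toCl_injective
  isInvertibleCl_toCl exists_toCl toCl_pull secT_XTproj norm_pull_XTproj)
open Groth.Agent.Pic13.H602.Rig

/-- Invertible modules are locally trivial. -/
lemma exists_pull_eq_one {T : Scheme.{u}} (c : Pic T) (t : T) :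
    ∃ U : T.Opens, t ∈ U ∧ pull U.ι c = 1 := by
  obtain ⟨N, hN, rfl⟩ := exists_mk c
  obtain ⟨U, ht, ⟨e⟩⟩ := hN t
  refine ⟨U, ht, ?_⟩
  rw [pull_mk, mk_eq_one_iff]
  exact ⟨(Scheme.Modules.restrictFunctorIsoPullback U.ι).symm.app N ≪≫ e⟩

/-- A class which comes from the base is étale-locally (even Zariski-locally) trivial. -/
lemma locEq_of_proj {X S : Scheme.{u}} (f : X ⟶ S) (T : Over S) (c : Pic T.left) :
    LocEq f T (pull (PicF.XTproj f T) c) 1 := by
  refine LocEq.of_zar fun t => ?_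
  obtain ⟨U, ht, h⟩ := exists_pull_eq_one c t
  refine ⟨U, ht, LocEq.of_eq ?_⟩
  have h1 : PicF.XTmap f (Picfga.OverRep.res T U) ≫ PicF.XTproj f T =
      PicF.XTproj f (Over.mk (U.ι ≫ T.hom)) ≫ U.ι := by
    unfold PicF.XTmap
    exact pullback.lift_snd _ _ _
  rw [map_one, pu, ← PicGrp.pull_comp, h1, PicGrp.pull_comp]
  exact (congrArg _ h).trans (map_one _)

variable {X S : Scheme.{u}} (f : X ⟶ S) (σ : S ⟶ X) (hσ : σ ≫ f = 𝟙 S)

/-- Étale coverings are fpqc coverings. -/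
lemma mem_fpqc {T : Over S} (𝒰 : ECov T) :
    Presieve.ofArrows (fun i ↦ (𝒰.V i).left) (fun i ↦ (𝒰.j i).left) ∈
      Scheme.fpqcPrecoverage T.left := by
  apply Scheme.proetalePrecoverage_le_fpqcPrecoverage
  apply Scheme.etalePrecoverage_le_proetalePrecoverage
  rw [Scheme.etalePrecoverage, Scheme.ofArrows_mem_precoverage_iff]
  exact ⟨fun t ↦ 𝒰.covers t, fun i ↦ 𝒰.isEtale i⟩

include hσ in
lemma isIso_snd (T : Over S) : IsIso (pullback.snd (σ ≫ f) T.hom) := by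
  have : IsIso (σ ≫ f) := by rw [hσ]; infer_instance
  infer_instance

lemma wT_eq (T : Over S) :
    wT f σ T = pullback.snd (σ ≫ f) T.hom ≫ PicF.secT f σ hσ T := by
  apply pullback.hom_ext
  · rw [wT_fst, Category.assoc, Fga.RigGrp.secT_fst, ← pullback.condition_assoc, hσ, Category.id_comp]
  · rw [wT_snd, Category.assoc]
    exact ((congrArg (fun z => pullback.snd (σ ≫ f) T.hom ≫ z) (secT_XTproj f σ hσ T)).trans
      (Category.comp_id _)).symm

variable {f σ}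

lemma pull_wT_eq_one_iff {T : Over S} (c : Pic (PicF.XT f T)) :
    pull (wT f σ T) c = 1 ↔ c ∈ Rg f σ hσ T := by
  have := isIso_snd f σ hσ T
  rw [mem_Rg, wT_eq f σ hσ, PicGrp.pull_comp]
  constructor
  · intro h
    have h1 := congrArg (pull (inv (pullback.snd (σ ≫ f) T.hom))) h
    rwa [← PicGrp.pull_comp, IsIso.inv_hom_id, PicGrp.pull_id, map_one] at h1
  · intro h
    rw [h, map_one]

include hσ in
lemma bijective_wT (hI : Inj f σ) (T : Over S) : Function.Bijective (wT f σ T).appTop := by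
  refine ⟨hI T, fun a => ?_⟩
  have := isIso_snd f σ hσ T
  have h1 : (pullback.snd (σ ≫ f) T.hom).appTop ((inv (pullback.snd (σ ≫ f) T.hom)).appTop a) = a := by
    have h := IsIso.hom_inv_id (pullback.snd (σ ≫ f) T.hom)
    have h2 : ((pullback.snd (σ ≫ f) T.hom) ≫ inv (pullback.snd (σ ≫ f) T.hom)).appTop a = a := by
      rw [h]
      simp
    exact h2
  refine ⟨(PicF.XTproj f T).appTop ((inv (pullback.snd (σ ≫ f) T.hom)).appTop a), ?_⟩
  have h3 : wT f σ T ≫ PicF.XTproj f T = pullback.snd (σ ≫ f) T.hom := wT_snd f σ T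
  have h4 : ∀ b, (wT f σ T).appTop ((PicF.XTproj f T).appTop b) = (pullback.snd (σ ≫ f) T.hom).appTop b := by
    intro b
    rw [← h3]
    rfl
  rw [h4, h1]

lemma exists_rcl {T : Over S} {c : Pic (PicF.XT f T)} (hc : c ∈ Rg f σ hσ T) :
    ∃ r : RCl (wT f σ T), r.cl = toCl c := by
  obtain ⟨L, hL, rfl⟩ := exists_mk c
  rw [← pull_wT_eq_one_iff, pull_mk, mk_eq_one_iff] at hc
  obtain ⟨e⟩ := hc
  exact ⟨RB.cls ⟨L, hL, Fam.ofIso e⟩, rfl⟩

include hσ in
lemma rcl_ext (hI : Inj f σ) {T : Over S} {r r' : RCl (wT f σ T)} (h : r.cl = r'.cl) : r = r' := by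
  obtain ⟨R, rfl⟩ := r.exists_rep
  obtain ⟨R', rfl⟩ := r'.exists_rep
  rw [RB.cls_cl, RB.cls_cl] at h
  rw [RB.cls_eq_iff]
  obtain ⟨θ, hθ⟩ := exists_isArr (w := show wT f σ T ≫ 𝟙 _ = 𝟙 _ ≫ wT f σ T by simp) R.inv
    (bijective_wT hσ hI T) (L' := R'.L) (by
      rw [Picfga.RigSheaf.pullCl_id]
      exact h.symm) R.ρ R'.ρ
  exact ⟨⟨θ, hθ⟩⟩

lemma cl_map {T T' : Over S} (g : T' ⟶ T) (r : (rigF f σ).obj (op T)) :
    RCl.cl ((rigF f σ).map g.op r) = PicF.pullCl (PicF.XTmap f g) (RCl.cl r) :=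
  RCl.cl_pull _ _

variable (hI : Inj f σ)

include hI

/-- Separatedness. -/
theorem eq_of_cover {T : Over S} (𝒰 : ECov T) {c c' : Pic (PicF.XT f T)} (hc : c ∈ Rg f σ hσ T)
    (hc' : c' ∈ Rg f σ hσ T) (h : ∀ i, pu f (𝒰.j i) c = pu f (𝒰.j i) c') : c = c' := by
  obtain ⟨r, hr⟩ := exists_rcl hσ hc
  obtain ⟨r', hr'⟩ := exists_rcl hσ hc'
  have h1 : r = r' := cls_eq_of_fpqc hI (mem_fpqc 𝒰) (fun i => rcl_ext hσ hI (by
    rw [cl_map, cl_map, hr, hr', ← toCl_pull, ← toCl_pull]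
    exact congrArg _ (h i)))
  apply toCl_injective
  rw [← hr, ← hr', h1]

/-- Gluing. -/
theorem exists_glue {T : Over S} (𝒰 : ECov T) (c : ∀ i, Pic (PicF.XT f (𝒰.V i)))
    (hc : ∀ i, c i ∈ Rg f σ hσ (𝒰.V i))
    (h : ∀ (i j : 𝒰.ι) (W : Over S) (a : W ⟶ 𝒰.V i) (b : W ⟶ 𝒰.V j), a ≫ 𝒰.j i = b ≫ 𝒰.j j →
      pu f a (c i) = pu f b (c j)) :
    ∃ d ∈ Rg f σ hσ T, ∀ i, pu f (𝒰.j i) d = c i := by
  choose r hr using fun i => exists_rcl hσ (hc i)
  obtain ⟨y, hy⟩ := exists_of_fpqc hI (mem_fpqc 𝒰) r (fun i k U a b e => rcl_ext hσ hI (by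
    rw [cl_map, cl_map, hr, hr, ← toCl_pull, ← toCl_pull]
    exact congrArg _ (h i k U a b e)))
  obtain ⟨d, hd⟩ := exists_toCl (RCl.isInvertibleCl y)
  refine ⟨d, ?_, fun i => toCl_injective ?_⟩
  · obtain ⟨R, rfl⟩ := RCl.exists_rep y
    obtain ⟨L, hL, rfl⟩ := exists_mk d
    rw [← pull_wT_eq_one_iff, pull_mk, mk_eq_one_iff]
    have h1 : Nonempty (R.L ≅ L) := (Fga.RigGrp.cl_eq_iff _ _).1 hd.symm
    obtain ⟨e⟩ := h1
    obtain ⟨ψ, -⟩ := Fam.exists_ofIso R.inv R.ρ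
    exact ⟨(Scheme.Modules.pullback _).mapIso e.symm ≪≫ ψ⟩
  · rw [pu, toCl_pull, hd, ← hr, ← hy]
    exact (cl_map _ _).symm

/-- Classes trivial along the section which agree étale locally are equal. -/
theorem eq_of_locEq {T : Over S} {c c' : Pic (PicF.XT f T)} (hc : c ∈ Rg f σ hσ T)
    (hc' : c' ∈ Rg f σ hσ T) (h : LocEq f T c c') : c = c' := by
  obtain ⟨𝒰, h𝒰⟩ := h
  exact eq_of_cover hσ hI 𝒰 hc hc' h𝒰

/-- A class which is trivial étale locally on `T` comes from `T`. -/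
theorem eq_proj_of_locEq {T : Over S} {c : Pic (PicF.XT f T)} (h : LocEq f T c 1) :
    c = pull (PicF.XTproj f T) (pull (PicF.secT f σ hσ T) c) := by
  have h1 : LocEq f T (norm f σ hσ T c) 1 := by
    rw [norm_apply, div_eq_mul_inv]
    have h2 := h.mul (locEq_of_proj f T (pull (PicF.secT f σ hσ T) c)).inv
    rwa [inv_one, mul_one] at h2
  have h3 := eq_of_locEq hσ hI (norm_mem f σ hσ T c) (one_mem _) h1
  rwa [norm_apply, div_eq_one] at h3

end Groth.Agent.Pic13.H520.RigCls
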