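import Mathlib.Topology.Connected.CardComponents
import Groth.Agent.Pic13.H965.Kill
import Groth.Agent.Pic13.H520.RigCls
import Groth.Agent.Pic13.H520.DisjPic
import Groth.Agent.CurvesC.ReducedConnField
import Groth.Agent.Pic13.H703.KPoints

/-!
# The reduced connected case of the kernel theorem

`h : X ⟶ Y` a surjective morphism of proper reduced schemes over an algebraically closed field `k`, `Y` connected.

* `rs_eq_one` : if a class on `Y × N` is trivial along a rational point of `Y` and its restriction to `X × N` is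
  étale-locally trivial on `N`, then this restriction is trivial;
* `inj_of_AA'`, `inj_of_AA` : if a class on `Y × N` whose restrictions to `Y × e` and to `X × N` are trivial is trivial, then the same
  holds for local families of classes.
-/

set_option autoImplicit false
universe u

open CategoryTheory MonoidalCategory CartesianMonoidalCategory Limits AlgebraicGeometry Opposite TopologicalSpace
open Groth.Agent.Ega3A.PicDiv Groth.Agent.Ega3A.PicEtSh Groth.Agent.Grpsch.PicGrp
open Groth.Agent.Ega3A.PicSheaf Groth.Agent.Ega3A.PicLocBase Groth.Agent.Pic13.H965.Kill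
open Groth.Agent.Fga.RigGrp (Rg mem_Rg pull_mem norm norm_mem norm_apply pull_norm norm_of_mem secT_XTproj)
open Groth.Agent.Pic13.H520.RigCls

namespace Groth.Agent.Pic13.H520.InjAA

/-- The connected components of a Noetherian scheme. -/
theorem exists_comps (X : Scheme.{u}) [NoetherianSpace X] : ∃ (ι : Type u) (_ : Finite ι) (U : ι → X.Opens),
    (∀ i, IsClosed (U i : Set X)) ∧ (∀ i, _root_.IsConnected (U i : Set X)) ∧
    (∀ i j, i ≠ j → Disjoint (U i : Set X) (U j : Set X)) ∧ ∀ x : X, ∃ i, x ∈ U i := by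
  have hfin : Finite (ConnectedComponents X) := by
    have hf : Finite (irreducibleComponents X) := NoetherianSpace.finite_irreducibleComponents.to_subtype
    have hne : ∀ Z : irreducibleComponents X, (Z : Set X).Nonempty := fun Z => Z.2.1.nonempty
    refine Finite.of_surjective (fun Z : irreducibleComponents X => (ConnectedComponents.mk (hne Z).some)) ?_
    intro c
    obtain ⟨x, rfl⟩ := ConnectedComponents.surjective_coe c
    let Z : irreducibleComponents X := ⟨irreducibleComponent x, irreducibleComponent_mem_irreducibleComponents x⟩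
    refine ⟨Z, ?_⟩
    have h1 : (hne Z).some ∈ irreducibleComponent x := (hne Z).some_mem
    have h2 : irreducibleComponent x ⊆ connectedComponent x :=
      irreducibleComponent_subset_connectedComponent
    exact ConnectedComponents.coe_eq_coe'.mpr (h2 h1)
  have hdisc : DiscreteTopology (ConnectedComponents X) := inferInstance
  refine ⟨ConnectedComponents X, hfin, fun c => ⟨ConnectedComponents.mk ⁻¹' {c},
    (isOpen_discrete _).preimage ConnectedComponents.continuous_coe⟩, fun c => ?_, ?_, ?_, ?_⟩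
  · change IsClosed (ConnectedComponents.mk ⁻¹' {c} : Set X)
    exact (isClosed_discrete _).preimage ConnectedComponents.continuous_coe
  · intro c
    obtain ⟨x, rfl⟩ := ConnectedComponents.surjective_coe c
    change _root_.IsConnected ((ConnectedComponents.mk : X → _) ⁻¹' {_} : Set X)
    rw [connectedComponents_preimage_singleton]
    exact isConnected_connectedComponent
  · intro i j hij
    rw [Set.disjoint_left]
    intro x hx hx'
    exact hij (hx.symm.trans hx')
  · intro x
    exact ⟨ConnectedComponents.mk x, rfl⟩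

section BC

variable {X Y S : Scheme.{u}} {q : X ⟶ S} {p : Y ⟶ S} {h : X ⟶ Y}

lemma isPullback_bc (hq : h ≫ p = q) (T : Over S) :
    IsPullback (bc hq T) (pullback.fst q T.hom) (pullback.fst p T.hom) h := by
  refine IsPullback.of_right ?_ (bc_fst hq T) (IsPullback.of_hasPullback p T.hom).flip
  rw [bc_snd, hq]
  exact (IsPullback.of_hasPullback q T.hom).flip

lemma isOpenImmersion_bc (hq : h ≫ p = q) [IsOpenImmersion h] (T : Over S) : IsOpenImmersion (bc hq T) :=
  MorphismProperty.of_isPullback (P := @IsOpenImmersion) (isPullback_bc hq T).flip inferInstance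

lemma mem_range_bc (hq : h ≫ p = q) (T : Over S) (z : PicF.XT p T) :
    z ∈ Set.range (bc hq T) ↔ pullback.fst p T.hom z ∈ Set.range h := by
  constructor
  · rintro ⟨x, rfl⟩
    refine ⟨pullback.fst q T.hom x, ?_⟩
    rw [← Scheme.Hom.comp_apply, ← Scheme.Hom.comp_apply, bc_fst]
  · rintro ⟨t, ht⟩
    obtain ⟨z', hz', -⟩ := Scheme.Pullback.exists_preimage_pullback (f := pullback.fst p T.hom) (g := h) z t ht.symm
    refine ⟨(isPullback_bc hq T).isoPullback.inv z', ?_⟩
    rw [← Scheme.Hom.comp_apply, IsPullback.isoPullback_inv_fst]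
    exact hz'

lemma secT_bc (hq : h ≫ p = q) (t : S ⟶ X) (ht : t ≫ q = 𝟙 S) (t' : S ⟶ Y) (ht' : t' ≫ p = 𝟙 S) (htt : t ≫ h = t')
    (T : Over S) : PicF.secT q t ht T ≫ bc hq T = PicF.secT p t' ht' T := by
  apply pullback.hom_ext
  · rw [Category.assoc, bc_fst, Fga.RigGrp.secT_fst, Fga.RigGrp.secT_fst_assoc, htt]
  · rw [Category.assoc, bc_snd]
    exact (secT_XTproj q t ht T).trans (secT_XTproj p t' ht' T).symm

end BC

variable {k : Type u} [Field k]

/-- Functions on a proper reduced connected scheme are determined by their value at a rational point, universally. -/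
lemma inj_of_connected {C : Scheme.{u}} (g : C ⟶ Spec (CommRingCat.of k)) [IsProper g] [IsReduced C]
    [ConnectedSpace C] (s : Spec (CommRingCat.of k) ⟶ C) : Pic13.H602.Rig.Inj g s := by
  have hc : CompactSpace C := QuasiCompact.compactSpace_of_compactSpace g
  have hs : QuasiSeparatedSpace C := quasiSeparatedSpace_of_quasiSeparated g
  refine Pic13.H602.Rig.inj_of_field g s ?_
  have hf := CurvesC.ReducedConnField.isField_of_universallyClosed g
  let := hf.toField
  exact s.appTop.hom.injective

variable [IsAlgClosed k]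

open Pic13.H703.KPoints in
/-- If a class on `Y × N` is trivial along a rational point of `Y` and its restriction to `X × N` is étale-locally
trivial on `N`, then this restriction is trivial. -/
theorem rs_eq_one {X Y : Scheme.{u}} (p : Y ⟶ Spec (CommRingCat.of k)) (q : X ⟶ Spec (CommRingCat.of k)) (h : X ⟶ Y)
    (hq : h ≫ p = q) [IsProper p] [IsProper q] [IsReduced X] [ConnectedSpace Y] [Surjective h]
    (N : Over (Spec (CommRingCat.of k))) (w : Spec (CommRingCat.of k) ⟶ Y) (hw : w ≫ p = 𝟙 _)
    (c : Pic (PicF.XT p N)) (hc : c ∈ Rg p w hw N) (hl : LocEq q N (rs hq N c) 1) : rs hq N c = 1 := by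
  have hXc : CompactSpace X := QuasiCompact.compactSpace_of_compactSpace q
  have hXn : IsLocallyNoetherian X := LocallyOfFiniteType.isLocallyNoetherian q
  have hXN : IsNoetherian X := {}
  have hXs : NoetherianSpace X := inferInstance
  have hXJ : JacobsonSpace X := LocallyOfFiniteType.jacobsonSpace q
  have hYJ : JacobsonSpace Y := LocallyOfFiniteType.jacobsonSpace p
  have hprop : IsProper (h ≫ p) := by rwa [hq]
  have hh : IsProper h := IsProper.of_comp h p
  obtain ⟨ι, hfin, U, hcl, hcon, hdis, hcov⟩ := exists_comps X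
  -- the components
  let g : ∀ i, (U i : Scheme.{u}) ⟶ Spec (CommRingCat.of k) := fun i => (U i).ι ≫ q
  have hg : ∀ i, (U i).ι ≫ q = g i := fun _ => rfl
  have hCI : ∀ i, IsClosedImmersion (U i).ι := fun i =>
    IsClosedImmersion.of_isPreimmersion _ (by simpa using hcl i)
  have hP : ∀ i, IsProper (g i) := fun i => inferInstance
  have hCon : ∀ i, ConnectedSpace (U i : Scheme.{u}) := fun i => isConnected_iff_connectedSpace.1 (hcon i)
  have hs : ∀ i, ∃ s : Spec (CommRingCat.of k) ⟶ (U i : Scheme.{u}), s ≫ g i = 𝟙 _ := fun i => exists_section (g i)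
  choose s hs using hs
  let d : ∀ i, Pic (PicF.XT (g i) N) := fun i => rs (hg i) N (rs hq N c)
  have hd : ∀ i, LocEq (g i) N (d i) 1 := fun i => by
    have := locEq_rs (hg i) hl
    rwa [map_one] at this
  let v : ∀ i, Pic N.left := fun i => pull (PicF.secT (g i) (s i) (hs i) N) (d i)
  have hdv : ∀ i, d i = pull (PicF.XTproj (g i) N) (v i) := fun i =>
    eq_proj_of_locEq (hs i) (inj_of_connected (g i) (s i)) (hd i)
  -- the values of `c` at the points of the images of the components
  have hval : ∀ (i : ι) (t : Spec (CommRingCat.of k) ⟶ (U i : Scheme.{u})) (ht : t ≫ g i = 𝟙 _)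
      (y : Spec (CommRingCat.of k) ⟶ Y) (hy : y ≫ p = 𝟙 _), (t ≫ (U i).ι) ≫ h = y →
      pull (PicF.secT p y hy N) c = v i := by
    intro i t ht y hy hty
    have h1 : PicF.secT p y hy N = PicF.secT (g i) t ht N ≫ bc (hg i) N ≫ bc hq N := by
      have ht' : (t ≫ (U i).ι) ≫ q = 𝟙 _ := by
        rw [Category.assoc]
        exact ht
      rw [← Category.assoc, secT_bc (hg i) t ht (t ≫ (U i).ι) ht' rfl, secT_bc hq _ ht' y hy hty]
    rw [h1, pull_comp, pull_comp]
    change pull _ (d i) = v i
    rw [hdv, ← pull_comp, secT_XTproj, pull_id]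
  have hpt : ∀ (i : ι) (y : Spec (CommRingCat.of k) ⟶ Y) (hy : y ≫ p = 𝟙 _),
      y (IsLocalRing.closedPoint k) ∈ h '' (U i : Set X) → pull (PicF.secT p y hy N) c = v i := by
    intro i y hy hyi
    have hycl : IsClosed ({y (IsLocalRing.closedPoint k)} : Set Y) :=
      (pointEquivClosedPoint p ⟨y, hy⟩).2
    obtain ⟨x, ⟨hx1, hx2⟩, hxcl⟩ := exists_closedPoint_mem (h ⁻¹' {y (IsLocalRing.closedPoint k)} ∩ (U i : Set X))
      ((hycl.preimage h.continuous).inter (hcl i)) (by
        obtain ⟨x, hx, hx'⟩ := hyi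
        exact ⟨x, hx', hx⟩)
    let x' : (U i : Scheme.{u}) := ⟨x, hx2⟩
    have hx' : IsClosed ({x'} : Set (U i : Scheme.{u})) := by
      have h1 : ({x'} : Set (U i : Scheme.{u})) = (U i).ι ⁻¹' {x} := by
        ext z
        simp only [Set.mem_singleton_iff, Set.mem_preimage]
        constructor
        · rintro rfl
          rfl
        · intro hz
          exact Subtype.ext hz
      rw [h1]
      exact hxcl.preimage (U i).ι.continuous
    have ht := pointOfClosedPoint_comp (g i) x' hx'
    refine hval i (pointOfClosedPoint (g i) x' hx') ht y hy ?_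
    refine ext_of_apply_closedPoint_eq p ?_ hy ?_
    · rw [Category.assoc, Category.assoc, hq]
      exact ht
    · rw [Scheme.Hom.comp_apply, Scheme.Hom.comp_apply, pointOfClosedPoint_apply]
      exact hx1
  -- topology
  let Z : Prop → Set Y := fun P => ⋃ i : {i : ι // v i = 1 ↔ P}, h '' (U i.1 : Set X)
  have hZcl : ∀ P, IsClosed (Z P) := fun P =>
    isClosed_iUnion_of_finite fun i => h.isClosedMap _ (hcl i.1)
  have hmem : ∀ y : Y, ∃ i, y ∈ h '' (U i : Set X) := by
    intro y
    obtain ⟨x, rfl⟩ := h.surjective y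
    obtain ⟨i, hi⟩ := hcov x
    exact ⟨i, x, hi, rfl⟩
  have hinter : Z True ∩ Z False = ∅ := by
    rw [Set.eq_empty_iff_forall_notMem]
    rintro y ⟨hy1, hy2⟩
    obtain ⟨i, hi⟩ := Set.mem_iUnion.1 hy1
    obtain ⟨j, hj⟩ := Set.mem_iUnion.1 hy2
    obtain ⟨y', ⟨hy1', hy2'⟩, hycl⟩ := exists_closedPoint_mem (h '' (U i.1 : Set X) ∩ h '' (U j.1 : Set X))
      ((h.isClosedMap _ (hcl i.1)).inter (h.isClosedMap _ (hcl j.1))) ⟨y, hi, hj⟩
    have h1 := hpt i.1 (pointOfClosedPoint p y' hycl) (pointOfClosedPoint_comp p y' hycl) (by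
      rw [pointOfClosedPoint_apply]
      exact hy1')
    have h2 := hpt j.1 (pointOfClosedPoint p y' hycl) (pointOfClosedPoint_comp p y' hycl) (by
      rw [pointOfClosedPoint_apply]
      exact hy2')
    have h3 := i.2.2 trivial
    rw [← h1, h2] at h3
    exact j.2.1 h3
  have hne : (Z True).Nonempty := by
    obtain ⟨i, hi⟩ := hmem (w (IsLocalRing.closedPoint k))
    refine ⟨_, Set.mem_iUnion.2 ⟨⟨i, ?_⟩, hi⟩⟩
    rw [← hpt i w hw hi]
    exact ⟨fun _ => trivial, fun _ => hc⟩
  have hall : ∀ i, v i = 1 := by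
    intro i
    by_contra hvi
    obtain ⟨x, hx⟩ := (hcon i).nonempty
    have h1 : (Z False).Nonempty := ⟨h x, Set.mem_iUnion.2 ⟨⟨i, by simpa using hvi⟩, x, hx, rfl⟩⟩
    have h2 := isPreconnected_closed_iff.1 (isPreconnected_univ (α := Y)) (Z True) (Z False) (hZcl _) (hZcl _)
      (by
        intro y _
        obtain ⟨j, hj⟩ := hmem y
        by_cases hvj : v j = 1
        · exact Or.inl (Set.mem_iUnion.2 ⟨⟨j, by simpa using hvj⟩, hj⟩)
        · exact Or.inr (Set.mem_iUnion.2 ⟨⟨j, by simpa using hvj⟩, hj⟩))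
      (by rwa [Set.univ_inter]) (by rwa [Set.univ_inter])
    rw [hinter, Set.univ_inter] at h2
    exact Set.not_nonempty_empty h2
  -- conclusion
  have hOI : ∀ i, IsOpenImmersion (bc (hg i) N) := fun i => isOpenImmersion_bc (hg i) N
  refine DisjPic.eq_one_of_disjoint (fun i => PicF.XT (g i) N) (fun i => bc (hg i) N) ?_ ?_ _ ?_
  · intro i j hij
    rw [Set.disjoint_left]
    intro z hz hz'
    rw [mem_range_bc] at hz hz'
    simp only [Scheme.Opens.range_ι] at hz hz'
    exact Set.disjoint_left.1 (hdis i j hij) hz hz'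
  · intro z
    obtain ⟨i, hi⟩ := hcov (pullback.fst q N.hom z)
    refine ⟨i, (mem_range_bc (hg i) N z).2 ?_⟩
    rw [Scheme.Opens.range_ι]
    exact hi
  · intro i
    change d i = 1
    rw [hdv, hall, map_one]

/-- The reduced connected case of the kernel theorem. -/
theorem inj_of_AA' {X Y : Scheme.{u}} (p : Y ⟶ Spec (CommRingCat.of k))
    (q : X ⟶ Spec (CommRingCat.of k)) (h : X ⟶ Y) (hq : h ≫ p = q) [IsProper p] [IsProper q] [IsReduced X]
    [IsReduced Y] [ConnectedSpace Y] [Surjective h] (N : Over (Spec (CommRingCat.of k)))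
    (e : 𝟙_ (Over (Spec (CommRingCat.of k))) ⟶ N)
    (AA : ∀ c : Pic (PicF.XT p N), pull (PicF.XTmap p e) c = 1 → rs hq N c = 1 → c = 1) : Inj hq e := by
  intro F he hF
  obtain ⟨w, hw⟩ := Pic13.H703.KPoints.exists_section p
  have hI := inj_of_connected p w
  -- the rigidified classes
  have hn : ∀ i, LocEq p _ (norm p w hw _ (F.c i)) (F.c i) := by
    intro i
    rw [norm_apply, div_eq_mul_inv]
    have h2 := (LocEq.refl (F.c i)).mul
      (locEq_of_proj p _ (pull (PicF.secT p w hw _) (F.c i))).inv
    rwa [inv_one, mul_one] at h2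
  obtain ⟨c, hc, hci⟩ := exists_glue hw hI F.𝒰 (fun i => norm p w hw _ (F.c i))
    (fun i => norm_mem p w hw _ (F.c i)) (by
      intro i j W a b hab
      refine eq_of_locEq hw hI (pull_mem a (norm_mem p w hw _ _)) (pull_mem b (norm_mem p w hw _ _)) ?_
      exact ((hn i).pull a).trans ((F.compat i j W a b hab).trans ((hn j).pull b).symm))
  have h1 : pull (PicF.XTmap p e) c = 1 := by
    refine eq_of_locEq hw hI (pull_mem e hc) (one_mem _) ?_
    obtain ⟨𝒱, h𝒱⟩ := exists_pull F.𝒰 e
    refine LocEq.of_cover 𝒱 (fun l => ?_)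
    obtain ⟨i, s, hs⟩ := h𝒱 l
    have h2 : pu p (𝒱.j l) (pull (PicF.XTmap p e) c) = pu p s (norm p w hw _ (F.c i)) := by
      rw [← hci i]
      change pu p (𝒱.j l) (pu p e c) = _
      rw [← pu_comp, ← pu_comp, pu_eq p hs]
    rw [h2, map_one]
    exact ((hn i).pull s).trans (he i _ s (𝒱.j l) hs.symm)
  have h2 : rs hq N c = 1 := by
    refine rs_eq_one p q h hq N w hw c hc (LocEq.of_cover F.𝒰 fun i => ?_)
    rw [map_one, ← rs_pu, hci]
    exact (locEq_rs hq (hn i)).trans (hF i)
  have h3 := AA c h1 h2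
  intro i
  refine (hn i).symm.trans (LocEq.of_eq ?_)
  rw [← hci, h3, map_one]

/-- The reduced connected case of the kernel theorem (form used in S4299). -/
theorem inj_of_AA (k : Type u) [Field k] [IsAlgClosed k] {X Y : Scheme.{u}} (p : Y ⟶ Spec (CommRingCat.of k))
    (q : X ⟶ Spec (CommRingCat.of k)) (h : X ⟶ Y) (hq : h ≫ p = q) [IsProper p] [IsProper q] [IsReduced X]
    [IsReduced Y] [ConnectedSpace Y] [Surjective h] (N : Over (Spec (CommRingCat.of k)))
    [LocallyOfFiniteType N.hom] [QuasiCompact N.hom] [QuasiSeparated N.hom]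
    (e : 𝟙_ (Over (Spec (CommRingCat.of k))) ⟶ N)
    (AA : ∀ c : Pic (PicF.XT p N), pull (PicF.XTmap p e) c = 1 → rs hq N c = 1 → c = 1) : Inj hq e :=
  inj_of_AA' p q h hq N e AA

end Groth.Agent.Pic13.H520.InjAA
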